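import Groth.Agent.AlgGrp.K395.TorSec
import Groth.Agent.FDesc.K108.FlatClosure

/-!
# Functions on `G × U` with values in a finite-dimensional space

* `at_ext`: functions on `G × V` are determined by their restrictions to `{t} × V`, `t ∈ G(k)`;
* `isUnit_of_forall_val`: a function on an affine `G` without zeros at rational points is a unit;
* `exists_coeff`: a function on `G × U` whose restrictions to `{t} × U` are linear combinations of `h l` is
  `∑ m l ⊗ h l`.
-/

set_option autoImplicit false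
universe u
open CategoryTheory MonoidalCategory CartesianMonoidalCategory MonObj GrpObj AlgebraicGeometry Limits

namespace K220.EqAux

open Groth.Agent.Sga3B.AffPts Groth.Agent.Books.AlgPts Groth.Agent.Fdesc.LocGen
open Groth.Agent.Fga.LimSec hiding sc
open K395.TorEv K395.TorDec

variable {k : Type u} [Field k] [IsAlgClosed k] {G X : Over (Spec (CommRingCat.of k))}

theorem at_ext [LocallyOfFiniteType (G ⊗ X).hom] [IsReduced (G ⊗ X).left] {V : X.left.Opens}
    (H : Γ((G ⊗ X).left, (snd G X).left ⁻¹ᵁ V))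
    (h : ∀ t : 𝟙_ (Over (Spec (CommRingCat.of k))) ⟶ G, at_ t V H = 0) : H = 0 := by
  by_contra hH
  have h1 : (G ⊗ X).left.basicOpen H ≠ ⊥ := fun h0 => hH ((basicOpen_eq_bot_iff _).1 h0)
  have h2 : (((G ⊗ X).left.basicOpen H : (G ⊗ X).left.Opens) : Set (G ⊗ X).left).Nonempty := by
    rw [Set.nonempty_iff_ne_empty]
    intro h0
    exact h1 (TopologicalSpace.Opens.ext h0)
  obtain ⟨q, hq⟩ := exists_pt_mem h2 ((G ⊗ X).left.basicOpen H).2.isLocallyClosed
  have h3 : (q ≫ snd G X) ≫ sc X (q ≫ fst G X) = q := by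
    rw [sc, comp_lift, Category.comp_id, ← Category.assoc, comp_toUnit]
    apply CartesianMonoidalCategory.hom_ext
    · rw [lift_fst]
      have : toUnit (𝟙_ (Over (Spec (CommRingCat.of k)))) = 𝟙 _ := toUnit_unique _ _
      rw [this, Category.id_comp]
    · rw [lift_snd]
  have h4 : X.left.basicOpen (at_ (q ≫ fst G X) V H) = V ⊓ (sc X (q ≫ fst G X)).left ⁻¹ᵁ (G ⊗ X).left.basicOpen H :=
    basicOpen_al _ _ _
  have h5 : pt (q ≫ snd G X) ∈ X.left.basicOpen (at_ (q ≫ fst G X) V H) := by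
    rw [h4]
    refine ⟨?_, ?_⟩
    · rw [pt_comp]
      exact (G ⊗ X).left.basicOpen_le H hq
    · have h6 : (sc X (q ≫ fst G X)).left (pt (q ≫ snd G X)) = pt q := by rw [← pt_comp, h3]
      have h7 : (sc X (q ≫ fst G X)).left (pt (q ≫ snd G X)) ∈ (G ⊗ X).left.basicOpen H := by rw [h6]; exact hq
      exact h7
  rw [h, Scheme.basicOpen_zero] at h5
  exact h5

theorem isUnit_of_forall_val [LocallyOfFiniteType G.hom] (b : Fn G)
    (h : ∀ t : 𝟙_ (Over (Spec (CommRingCat.of k))) ⟶ G, val t b ≠ 0) : IsUnit (b : Γ(G.left, ⊤)) := by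
  have key : G.left.basicOpen (b : Γ(G.left, ⊤)) = ⊤ := by
    by_contra hne
    have h2 : ((G.left.basicOpen (b : Γ(G.left, ⊤)) : Set G.left)ᶜ).Nonempty := by
      rw [Set.nonempty_compl]
      intro h0
      exact hne (TopologicalSpace.Opens.ext h0)
    obtain ⟨t, ht⟩ := exists_pt_mem h2 (G.left.basicOpen (b : Γ(G.left, ⊤))).2.isClosed_compl.isLocallyClosed
    exact ht ((mem_basicOpen_iff t b).2 (h t))
  exact K108.FlatClosure.isUnit_of_basicOpen_eq_top _ key

theorem exists_coeff [IsAffine G.left] [LocallyOfFiniteType (G ⊗ X).hom] [IsReduced (G ⊗ X).left]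
    {U : X.left.Opens} (hU : IsAffineOpen U) {n : ℕ} (h : Fin n → Γ(X.left, U))
    (H : Γ((G ⊗ X).left, (snd G X).left ⁻¹ᵁ U))
    (hH : ∀ t : 𝟙_ (Over (Spec (CommRingCat.of k))) ⟶ G, ∃ c : Fin n → k, at_ t U H = ∑ l, str U (c l) * h l) :
    ∃ m : Fin n → Γ(G.left, ⊤), H = ∑ l, al (fst G X).left (U := ⊤) (W := (snd G X).left ⁻¹ᵁ U) le_top (m l) *
      al (snd G X).left (le_refl ((snd G X).left ⁻¹ᵁ U)) (h l) := by
  have hP := isPushout_of_isAffineOpen (f := G.hom) (g := (snd G X).left) (iX := X.hom) (iY := (fst G X).left)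
    (by
      have := IsPullback.of_hasPullback G.hom X.hom
      exact this.flip) hU
  obtain ⟨r, g, b, hgb⟩ := Groth.Agent.Localalg.VanGen.gen_of_isPushout hP H
  -- a retraction onto the span of the `h l`
  let _ : Algebra k Γ(X.left, U) := (str U).toAlgebra
  have hsm : ∀ (c : k) (x : Γ(X.left, U)), c • x = str U c * x := fun _ _ => rfl
  let W : Submodule k Γ(X.left, U) := Submodule.span k (Set.range h)
  obtain ⟨π, hπ⟩ := W.subtype.exists_leftInverse_of_injective (by simp)
  have hπ' : ∀ x ∈ W, (π x : Γ(X.left, U)) = x := fun x hx =>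
    congrArg Subtype.val (LinearMap.congr_fun hπ ⟨x, hx⟩)
  have hW : ∀ x : Γ(X.left, U), x ∈ W ↔ ∃ c : Fin n → k, x = ∑ l, str U (c l) * h l := by
    intro x
    rw [Submodule.mem_span_range_iff_exists_fun]
    exact ⟨fun ⟨c, hc⟩ => ⟨c, hc.symm⟩, fun ⟨c, hc⟩ => ⟨c, hc.symm⟩⟩
  choose c hc using fun i => (hW (π (g i))).1 (π (g i)).2
  refine ⟨fun l => ∑ i, str (⊤ : G.left.Opens) (c i l) * b i, ?_⟩
  rw [← sub_eq_zero]
  refine at_ext _ fun t => ?_
  have h1 : at_ t U H = ∑ i, str U (val t (b i : Fn G)) * g i := by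
    rw [hgb, map_sum]
    refine Finset.sum_congr rfl fun i _ => ?_
    have e1 := at_snd t U (g i)
    have e2 := at_fst t U (b i : Fn G)
    rw [map_mul, mul_comm]
    exact congrArg₂ (· * ·) e2 e1
  have h2 : (π (at_ t U H) : Γ(X.left, U)) = at_ t U H := hπ' _ ((hW _).2 (hH t))
  have h3 : (π (at_ t U H) : Γ(X.left, U)) = ∑ i, str U (val t (b i : Fn G)) * (π (g i) : Γ(X.left, U)) := by
    rw [h1]
    have : ∑ i, str U (val t (b i : Fn G)) * g i = ∑ i, (val t (b i : Fn G)) • g i := rfl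
    rw [this, map_sum, Submodule.coe_sum]
    refine Finset.sum_congr rfl fun i _ => ?_
    rw [map_smul]
    rfl
  rw [map_sub, sub_eq_zero, ← h2, h3, map_sum]
  have h4 : ∀ l, at_ t U (al (fst G X).left (U := ⊤) (W := (snd G X).left ⁻¹ᵁ U) le_top
      (∑ i, str (⊤ : G.left.Opens) (c i l) * b i) * al (snd G X).left (le_refl ((snd G X).left ⁻¹ᵁ U)) (h l)) =
      ∑ i, str U (val t (b i : Fn G)) * (str U (c i l) * h l) := by
    intro l
    rw [map_mul, at_snd, map_sum, map_sum, Finset.sum_mul]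
    refine Finset.sum_congr rfl fun i _ => ?_
    rw [map_mul, map_mul, al_str]
    have e2 := at_fst t U (b i : Fn G)
    have e3 : at_ t U (str (Z := G ⊗ X) ((snd G X).left ⁻¹ᵁ U) (c i l)) = str U (c i l) := al_str _ _ _
    rw [e3]
    refine (congrArg (fun z => str U (c i l) * z * h l) e2).trans ?_
    ring
  rw [Finset.sum_congr rfl fun l _ => h4 l, Finset.sum_comm]
  refine Finset.sum_congr rfl fun i _ => ?_
  rw [← Finset.mul_sum, ← hc i]

end K220.EqAux
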