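import Groth.Agent.AlgGrp.K395.BigAmple
import Groth.Agent.Fga.LimSec
import Groth.Agent.Desc.DimMap
import Mathlib.AlgebraicGeometry.Morphisms.UniversallyOpen

/-!
# Functions on a big open of a normal scheme, for open immersions

* `big_preimage`: preimages of big opens under flat morphisms are big;
* `al_bijective`: functions extend uniquely over the complement of a big open.
-/

set_option autoImplicit false
universe u
open CategoryTheory CategoryTheory.Limits AlgebraicGeometry TopologicalSpace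

namespace K220.EqExt

open Groth.Agent.Fga.LimSec Groth.Agent.Fdesc.LocGen K395.NormExt K395.BigAmple

theorem big_preimage {Y Z : Scheme.{u}} (f : Y ⟶ Z) [Flat f] {Z₀ : Z.Opens} (h : Big Z₀) : Big (f ⁻¹ᵁ Z₀) :=
  fun y hy => h _ ((Groth.Agent.Desc.DimMap.coheight_le_of_generalizingMap f f.continuous (Flat.generalizingMap f) y).trans hy)

theorem al_bijective_of_iso {A B' B : Scheme.{u}} (e : A ⟶ B') [IsIso e] (i : B' ⟶ B) {O : B.Opens}
    (hi : Function.Bijective (i.app O)) {W : A.Opens} (hW : W = (e ≫ i) ⁻¹ᵁ O) :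
    Function.Bijective (al (e ≫ i) (U := O) (W := W) hW.le) := by
  subst hW
  have h2 : Function.Bijective (e.app (i ⁻¹ᵁ O)) := ConcreteCategory.bijective_of_isIso (e.app (i ⁻¹ᵁ O))
  have h3 : ∀ b, al (e ≫ i) (le_refl ((e ≫ i) ⁻¹ᵁ O)) b = e.app (i ⁻¹ᵁ O) (i.app O b) := by
    intro b
    rw [app_eq_al, app_eq_al, al_comp]
    rfl
  rw [show (al (e ≫ i) (le_refl ((e ≫ i) ⁻¹ᵁ O)) : Γ(B, O) → Γ(A, (e ≫ i) ⁻¹ᵁ O)) = _ from funext h3]
  exact h2.comp hi

theorem al_bijective {A B : Scheme.{u}} [IsIntegral B] [IsLocallyNoetherian B] (hB : Pi1.IsNormalScheme B)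
    (j : A ⟶ B) [IsOpenImmersion j] (hj : Big j.opensRange) {O : B.Opens} {W : A.Opens} (hW : W = j ⁻¹ᵁ O) :
    Function.Bijective (al j (U := O) (W := W) hW.le) := by
  have h1 : Function.Bijective (j.opensRange.ι.app O) := ⟨app_injective hj O, app_surjective hB hj O⟩
  have he : j.isoOpensRange.hom ≫ j.opensRange.ι = j := by simp
  have key : ∀ (j' : A ⟶ B) (_ : j.isoOpensRange.hom ≫ j.opensRange.ι = j') {W : A.Opens} (hW : W = j' ⁻¹ᵁ O),
      Function.Bijective (al j' (U := O) (W := W) hW.le) := by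
    rintro _ rfl W hW
    exact al_bijective_of_iso _ _ h1 hW
  exact key j he hW

end K220.EqExt
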