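import Groth.Agent.AlgGrp.K395.TorDec
import Groth.Agent.AlgGrp.K395.SmLoc
import Groth.Agent.Dual3.K477.NormalGeo
import Groth.Agent.Pic13.H969.StalkFree
import Groth.Agent.Ega3B.AcycNbhd
import Groth.Agent.S1691
import Groth.Agent.S2329

/-!
# Sections over the smooth locus of a proper normal variety

The sections of an invertible module over the smooth locus of a proper normal variety form a finite-dimensional space.
-/

set_option autoImplicit false
universe u
open CategoryTheory MonoidalCategory CartesianMonoidalCategory MonObj GrpObj AlgebraicGeometry Limits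

namespace K220.EqFin

open Groth.Agent.Fdesc.LocGen Groth.Agent.Fga.LimSec K395.TorDec K395.SmLoc

variable {k : Type u} [Field k] [PerfectField k]

theorem isCoh_pushforward {X : Scheme.{u}} (p : X ⟶ Spec (CommRingCat.of k)) [IsIntegral X] [LocallyOfFiniteType p]
    (hX : Pi1.IsNormalScheme X) {L : p.smoothLocus.toScheme.Modules} (hL : PicF.IsInvertible L) :
    Coh.IsCoh ((Scheme.Modules.pushforward p.smoothLocus.ι).obj L) := by
  have : IsLocallyNoetherian X := LocallyOfFiniteType.isLocallyNoetherian p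
  refine ((Groth.Agent.S1691.result X p.smoothLocus
    fun x hx => Groth.Agent.K477.NormalGeo.two_le_depth p hX x hx).2 L
    (Groth.Agent.S2329.isCoh_of_isInvertible hL) fun x => ?_).1
  obtain ⟨h1, h2⟩ := Groth.Agent.Pic13.H969.StalkFree.free_stalk_of_isInvertible hL x
  have h3 : Module.Finite (p.smoothLocus.toScheme.presheaf.stalk x) (L.presheaf.stalk x) :=
    Module.finite_of_finrank_pos (by rw [h2]; exact one_pos)
  infer_instance

omit [PerfectField k] in
theorem str_eq {X : Over (Spec (CommRingCat.of k))} (U : X.left.Opens) (c : Γ(Spec (CommRingCat.of k), ⊤)) :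
    (str (Z := sub U) ⊤ ((Scheme.ΓSpecIso (CommRingCat.of k)).hom c) : Γ(U.toScheme, ⊤)) =
      U.ι.app ⊤ (X.hom.appLE ⊤ ⊤ le_top c) := by
  have h2 : (Scheme.ΓSpecIso (CommRingCat.of k)).inv ((Scheme.ΓSpecIso (CommRingCat.of k)).hom c) = c :=
    congr($((Scheme.ΓSpecIso (CommRingCat.of k)).hom_inv_id) c)
  rw [str, RingHom.comp_apply]
  refine (congrArg _ h2).trans ?_
  refine Eq.trans ?_ (app_eq_al U.ι ⊤ _).symm
  exact (al_comp X.hom U.ι (U := ⊤) (W := ⊤) (W' := ⊤) le_top le_top c).symm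

/-- The sections of an invertible module over the smooth locus are finite-dimensional. -/
theorem exists_fin (X : Over (Spec (CommRingCat.of k))) [IsIntegral X.left] [IsProper X.hom]
    (hX : Pi1.IsNormalScheme X.left) {L : X.hom.smoothLocus.toScheme.Modules} (hL : PicF.IsInvertible L) :
    ∃ (n : ℕ) (w : Fin n → Γ(L, ⊤)), ∀ w' : Γ(L, ⊤), ∃ c : Fin n → k,
      w' = ∑ i, (str (Z := sub X.hom.smoothLocus) ⊤ (c i) : Γ(X.hom.smoothLocus.toScheme, ⊤)) • w i := by
  let P := (Scheme.Modules.pushforward X.hom.smoothLocus.ι).obj L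
  have hP : Coh.IsCoh P := isCoh_pushforward X.hom hX hL
  let i1 := Groth.Agent.Ega3B.CechBC.modV X.hom P ⊤
  have h1 : Module.Finite Γ(Spec (CommRingCat.of k), ⊤) Γ(P, ⊤) :=
    Groth.Agent.Ega3B.AcycNbhd.finite_sections X.hom P hP
  obtain ⟨n, w, hw⟩ := Module.Finite.exists_fin (R := Γ(Spec (CommRingCat.of k), ⊤)) (M := Γ(P, ⊤))
  refine ⟨n, w, fun w' => ?_⟩
  have h2 : (w' : Γ(P, ⊤)) ∈ Submodule.span Γ(Spec (CommRingCat.of k), ⊤) (Set.range w) := by
    rw [hw]
    trivial
  obtain ⟨c, hc⟩ : ∃ c : Fin n → Γ(Spec (CommRingCat.of k), ⊤), ∑ i, c i • w i = (w' : Γ(P, ⊤)) :=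
    (Submodule.mem_span_range_iff_exists_fun _).1 h2
  refine ⟨fun i => (Scheme.ΓSpecIso (CommRingCat.of k)).hom (c i), ?_⟩
  refine hc.symm.trans (Finset.sum_congr rfl fun i _ => ?_)
  rw [str_eq]
  rfl

end K220.EqFin
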