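import Groth.Agent.AlgGrp.K395.TorSec

/-!
# Sections of an invertible module and an action, in coordinates

`σ : G ⊗ X ⟶ X`, `φ : σ^* L ≅ p₂^* L`, `v` a section of `L` which generates `L` on `V`. For a section `w` of `L` the
section `φ (σ^* w)` is on `G × V` the multiple `Φ w` of `p₂^* v`.
-/

set_option autoImplicit false
universe u
open CategoryTheory MonoidalCategory CartesianMonoidalCategory MonObj GrpObj AlgebraicGeometry Limits

namespace K220.EqFun

open Groth.Agent.Sga3B.AffPts Groth.Agent.Books.AlgPts Groth.Agent.Fga.LimSec Groth.Agent.Fdesc.LocGen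
open K395.TorEv K395.TorDec K395.TorMod K395.LocEq

variable {k : Type u} [Field k] {G X : Over (Spec (CommRingCat.of k))}

/-- The functions `Φ w`. -/
theorem exists_fun (σ : G ⊗ X ⟶ X) {L : X.left.Modules} (v : Coh.structureModule X.left ⟶ L)
    (V : X.left.Opens) (he : IsGen (sec v V))
    (φ : (Scheme.Modules.pullback σ.left).obj L ≅ (Scheme.Modules.pullback (snd G X).left).obj L) :
    ∃ Φ : (Coh.structureModule X.left ⟶ L) → Γ((G ⊗ X).left, (snd G X).left ⁻¹ᵁ V),
      (∀ w (t : 𝟙_ (Over (Spec (CommRingCat.of k))) ⟶ G), ∃ w' : Coh.structureModule X.left ⟶ L,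
        sec w' V = (at_ t V (Φ w) : Γ(X.left, V)) • sec v V) ∧
      ∀ (Ω : (G ⊗ X).left.Opens) (hl : Ω ≤ σ.left ⁻¹ᵁ V) (hr : Ω ≤ (snd G X).left ⁻¹ᵁ V),
        (∀ w (h : Γ(X.left, V)), sec w V = h • sec v V →
          al σ.left hl h * ores hr (Φ v) = ores hr (Φ w)) ∧ IsUnit (ores hr (Φ v)) := by
  have hg := he.pullSec (snd G X).left
  choose Φ hΦ using fun w : Coh.structureModule X.left ⟶ L =>
    hg.exists_eq (sec (pullHom σ.left w ≫ φ.hom) ((snd G X).left ⁻¹ᵁ V))
  refine ⟨Φ, fun w t => ?_, fun Ω hl hr => ?_⟩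
  · obtain ⟨w', -, h2⟩ := exists_evAt (sc X t).left (snd G X).left (sc_snd_left t) L
      (pullHom σ.left w ≫ φ.hom)
    exact ⟨w', h2 V (sec v V) (Φ w) (hΦ w)⟩
  have hg' := hg.res hr
  have hw : ∀ (w : Coh.structureModule X.left ⟶ L),
      res _ hl (φ.hom.app _ (pullSec σ.left (sec w V))) = (ores hr (Φ w) : Γ((G ⊗ X).left, Ω)) •
        res _ hr (pullSec (snd G X).left (sec v V)) := by
    intro w
    rw [← res_smul, ← hΦ w, ← sec_pullHom, ← sec_comp, res_sec, res_sec]
  refine ⟨fun w h hh => ?_, ?_⟩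
  · refine hg'.ext ?_
    rw [mul_smul, ← hw w, ← hw v, hh, pullSec_smul]
    refine Eq.trans ?_ (congrArg (res _ hl) (Scheme.Modules.Hom.app_smul φ.hom _ _).symm)
    rw [res_smul]
    congr 1
  · have h1 := ((he.pullSec σ.left).app φ.hom).res hl
    rw [hw v] at h1
    exact hg'.isUnit_of_smul h1

end K220.EqFun
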