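import Groth.Agent.AlgGrp.K407.PicTors
import Groth.Agent.AlgGrp.K407.ActPic
import Groth.Agent.Ega2.AmpleGlobGen

/-!
# Powers of an invertible module with an action

For a connected linear group `G` acting on a normal `X` and `s : O ⟶ L`, a power `M` of `L` satisfies `σ^* M ≅ p₂^* M`
and has sections whose quotients by `s^m` are given functions on the non-vanishing locus of `s`.
-/

set_option autoImplicit false
universe u
open CategoryTheory MonoidalCategory CartesianMonoidalCategory MonObj GrpObj AlgebraicGeometry Limits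

namespace K220.EqPow

open Groth.Agent.Fdesc.LocGen Groth.Agent.Grpsch.PicGrp

variable {k : Type u} [Field k] [IsAlgClosed k]

theorem exists_power (G X : Over (Spec (CommRingCat.of k))) [GrpObj G] [IsAffine G.left] [Smooth G.hom]
    [ConnectedSpace ↥G.left] [IsIntegral X.left] [LocallyOfFiniteType X.hom] (hX : Pi1.IsNormalScheme X.left)
    [CompactSpace X.left] [QuasiSeparatedSpace X.left] (a : AlgGrp.Action G X) {L : X.left.Modules}
    (hL : PicF.IsInvertible L) (s : Coh.structureModule X.left ⟶ L) (C : Finset Γ(X.left, CohB1.genLocus L s)) :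
    ∃ (M : X.left.Modules) (_ : PicF.IsInvertible M) (v : Coh.structureModule X.left ⟶ M),
      IsGen (sec v (CohB1.genLocus L s)) ∧
      (∀ c ∈ C, ∃ w : Coh.structureModule X.left ⟶ M,
        sec w (CohB1.genLocus L s) = c • sec v (CohB1.genLocus L s)) ∧
      Nonempty ((Scheme.Modules.pullback a.act.left).obj M ≅ (Scheme.Modules.pullback (snd G X).left).obj M) := by
  classical
  obtain ⟨b, hb⟩ := K407.ActPic.exists_act G X hX a (mk L hL)
  obtain ⟨N, hN, hbN⟩ := K407.PicTors.isTorsion G b
  choose n hn using fun c : Γ(X.left, CohB1.genLocus L s) => Groth.Agent.Ega2.AmpleGlobGen.exists_extend_fun_top hL s c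
  obtain ⟨m, hm, hm'⟩ : ∃ m, N ∣ m ∧ ∀ c ∈ C, n c ≤ m :=
    ⟨N * (C.sup n), Dvd.intro _ rfl, fun c hc => (Finset.le_sup (f := n) hc).trans
      (Nat.le_mul_of_pos_left _ (Nat.pos_of_ne_zero hN))⟩
  have hM := isInvertible_tensorPow hL m
  have hv : ∀ U : X.left.Opens, sec (homOf (pow (sec s ⊤) m)) U = pow (sec s U) m := by
    intro U
    rw [sec_homOf, res_pow, res_sec]
  refine ⟨CohB1.tensorPow L m, hM, homOf (pow (sec s ⊤) m), ?_, fun c hc => ?_, ?_⟩
  · rw [hv]
    exact (isGen_sec_genLocus s).pow m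
  · obtain ⟨t', ht'⟩ := hn c m (hm' c hc)
    refine ⟨homOf t', ?_⟩
    rw [sec_homOf, hv]
    exact ht'
  · refine (mk_eq_iff (isInvertible_pullback _ hM) (isInvertible_pullback _ hM)).1 ?_
    rw [← pull_mk a.act.left hM, ← pull_mk (snd G X).left hM, mk_tensorPow hL, map_pow, map_pow, hb, mul_pow, ← map_pow]
    obtain ⟨d, rfl⟩ := hm
    rw [pow_mul, hbN, one_pow, map_one, _root_.one_mul]

end K220.EqPow
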