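import Groth.Agent.AlgGrp.K220.EqFun
import Groth.Agent.AlgGrp.K220.EqExt
import Groth.Agent.AlgGrp.K220.EqPow
import Groth.Agent.AlgGrp.K220.EqFin
import Groth.Agent.AlgGrp.K220.EqAux
import Groth.Agent.AlgGrp.K395.SumiTorus
import Groth.Agent.AbVar.K528.Irr

/-!
# Equivariant generators of an affine open of a proper normal variety
-/

set_option autoImplicit false
universe u
open CategoryTheory MonoidalCategory CartesianMonoidalCategory MonObj GrpObj AlgebraicGeometry Limits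

namespace K220.EqGen

open Groth.Agent.Sga3B.AffPts Groth.Agent.Books.AlgPts Groth.Agent.Fdesc.LocGen Groth.Agent.Grpsch.PicGrp
open Groth.Agent.Fga.LimSec hiding sc
open K395.TorEv K395.TorDec K395.SmLoc K395.NormExt K413.Saturate

variable {k : Type u} [Field k] [IsAlgClosed k]

/-- The finite-dimensional space of functions on `U`. -/
theorem exists_space (G X : Over (Spec (CommRingCat.of k))) [GrpObj G] [IsAffine G.left] [Smooth G.hom]
    [ConnectedSpace ↥G.left] [IsIntegral X.left] [IsProper X.hom] (hX : Pi1.IsNormalScheme X.left)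
    (a : AlgGrp.Action G X) (U : X.left.Opens) (hU : IsAffineOpen U) (hne : (U : Set X.left).Nonempty)
    (C : Finset Γ(X.left, U)) :
    ∃ (W : Set Γ(X.left, U)) (F : Γ((G ⊗ X).left, (snd G X).left ⁻¹ᵁ U)),
      1 ∈ W ∧ (∀ c ∈ C, c ∈ W) ∧
      (∃ (n : ℕ) (h : Fin n → Γ(X.left, U)), ∀ x ∈ W, ∃ c : Fin n → k, x = ∑ i, str U (c i) * h i) ∧
      (∀ (n : ℕ) (h : Fin n → Γ(X.left, U)) (c : Fin n → k), (∀ i, h i ∈ W) → ∑ i, str U (c i) * h i ∈ W) ∧
      (∀ h ∈ W, ∃ H : Γ((G ⊗ X).left, (snd G X).left ⁻¹ᵁ U),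
        (∀ t : 𝟙_ (Over (Spec (CommRingCat.of k))) ⟶ G, at_ t U H ∈ W) ∧
        ∀ (Ω : (G ⊗ X).left.Opens) (hl : Ω ≤ a.act.left ⁻¹ᵁ U) (hr : Ω ≤ (snd G X).left ⁻¹ᵁ U),
          al a.act.left hl h * ores hr F = ores hr H) ∧
      ∀ (Ω : (G ⊗ X).left.Opens) (_ : Ω ≤ a.act.left ⁻¹ᵁ U) (hr : Ω ≤ (snd G X).left ⁻¹ᵁ U), IsUnit (ores hr F) := by
  have hN : IsLocallyNoetherian X.left := LocallyOfFiniteType.isLocallyNoetherian X.hom
  have hCs : CompactSpace X.left := QuasiCompact.compactSpace_of_compactSpace X.hom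
  have hXN : IsNoetherian X.left := {}
  obtain ⟨X₀, hX₀⟩ : ∃ X₀ : X.left.Opens, X₀ = X.hom.smoothLocus := ⟨_, rfl⟩
  obtain ⟨L, s, hL, hs⟩ : ∃ (L : (sub X₀).left.Modules) (s : Coh.structureModule _ ⟶ L), PicF.IsInvertible L ∧
      CohB1.genLocus L s = X₀.ι ⁻¹ᵁ U := by
    rw [hX₀]
    exact K395.SumiTorus.exists_module X hX hU hne
  have hfin : ∀ (M : (sub X₀).left.Modules), PicF.IsInvertible M → ∃ (n : ℕ) (w : Fin n → Γ(M, ⊤)),
      ∀ w' : Γ(M, ⊤), ∃ c : Fin n → k,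
        w' = ∑ i, (str (Z := sub X₀) ⊤ (c i) : Γ((sub X₀).left, ⊤)) • w i := by
    rw [hX₀]
    exact fun M hM => EqFin.exists_fin X hX hM
  have h₀ : Big X₀ := by
    rw [hX₀]
    exact big_smoothLocus X.hom hX
  have hst : sat a (X₀ : Set X.left) ⊆ X₀ := by
    rw [hX₀]
    exact sat_smoothLocus_subset a
  have hgen := nonempty_inf_big h₀ hne
  have hZn : Nonempty X₀ := ⟨⟨_, hgen.2⟩⟩
  have hZi : IsIntegral (sub X₀).left := inferInstanceAs (IsIntegral X₀.toScheme)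
  have hlft : LocallyOfFiniteType (sub X₀).hom := inferInstanceAs (LocallyOfFiniteType (X₀.ι ≫ X.hom))
  have hc0 : CompactSpace (sub X₀).left :=
    isCompact_iff_compactSpace.1 (TopologicalSpace.NoetherianSpace.isCompact (X₀ : Set X.left))
  have hN0 : IsLocallyNoetherian (sub X₀).left := LocallyOfFiniteType.isLocallyNoetherian (sub X₀).hom
  have hq0 : QuasiSeparatedSpace (sub X₀).left := inferInstance
  let b := restr a hst
  have hN₀ : Pi1.IsNormalScheme (sub X₀).left := K436.FibNormal.isNormalScheme_opens hX X₀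
  -- the restriction to the smooth locus
  let V₀ : (sub X₀).left.Opens := CohB1.genLocus L s
  have hV₀ : V₀ = (inc X₀).left ⁻¹ᵁ U := hs
  have hib : Big (inc X₀).left.opensRange := fun z hz => ⟨⟨z, h₀ z hz⟩, rfl⟩
  have hρ := EqExt.al_bijective hX (inc X₀).left hib hV₀
  set ρ : Γ(X.left, U) →+* Γ((sub X₀).left, V₀) := al (inc X₀).left hV₀.le with hρdef
  have hρs : ∀ c, ρ (str U c) = str V₀ c := fun c => al_str (inc X₀) _ c
  classical
  obtain ⟨M, hM, v, hv, hC, ⟨φ⟩⟩ := EqPow.exists_power G (sub X₀) hN₀ b hL s (C.image ρ)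
  obtain ⟨Φ, hΦ1, hΦ2⟩ := EqFun.exists_fun b.act v V₀ hv φ
  -- the product
  have hGi : IsIntegral G.left := K407.Chart.isIntegral_of_connected G
  have hsn : Smooth (snd G X).left := K395.Act.snd_mem @Smooth G X inferInstance
  have hGX : IsIntegral (G ⊗ X).left := K528.Irr.isIntegral_tensor G X
  have hGXn : Pi1.IsNormalScheme (G ⊗ X).left := fun x =>
    Groth.Agent.Ega4dA.SmoothStalk.stalk_of_smooth hX (snd G X).left x
  have hGXN : IsLocallyNoetherian (G ⊗ X).left := LocallyOfFiniteType.isLocallyNoetherian (snd G X).left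
  let j : G ⊗ sub X₀ ⟶ G ⊗ X := G ◁ inc X₀
  have hjp := Groth.Agent.Sga3C.SchemImage.isPullback_whiskerLeft_left (inc X₀) G
  have hjo : IsOpenImmersion j.left := MorphismProperty.of_isPullback (P := @IsOpenImmersion) hjp.flip
    (inferInstanceAs (IsOpenImmersion (inc X₀).left))
  have hjb : Big j.left.opensRange := fun z hz => by
    have h1 := EqExt.big_preimage (snd G X).left h₀ z hz
    obtain ⟨r, hr1, -⟩ := Scheme.exists_preimage_of_isPullback hjp z ⟨(snd G X).left z, h1⟩ rfl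
    exact ⟨r, hr1⟩
  have hja : j ≫ a.act = b.act ≫ inc X₀ := (restr_act_inc a hst).symm
  have hjs : j ≫ snd G X = snd G (sub X₀) ≫ inc X₀ := whiskerLeft_snd _ _
  have hja' : j.left ≫ a.act.left = b.act.left ≫ (inc X₀).left := congrArg (fun q => q.left) hja
  have hjs' : j.left ≫ (snd G X).left = (snd G (sub X₀)).left ≫ (inc X₀).left := congrArg (fun q => q.left) hjs
  have hV1 : (snd G (sub X₀)).left ⁻¹ᵁ V₀ = j.left ⁻¹ᵁ ((snd G X).left ⁻¹ᵁ U) := by
    rw [hV₀]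
    change ((snd G (sub X₀)).left ≫ (inc X₀).left) ⁻¹ᵁ U = (j.left ≫ (snd G X).left) ⁻¹ᵁ U
    rw [hjs']
  have hV2 : b.act.left ⁻¹ᵁ V₀ = j.left ⁻¹ᵁ (a.act.left ⁻¹ᵁ U) := by
    rw [hV₀]
    change (b.act.left ≫ (inc X₀).left) ⁻¹ᵁ U = (j.left ≫ a.act.left) ⁻¹ᵁ U
    rw [hja']
  have hJ := EqExt.al_bijective hGXn j.left hjb hV1
  obtain ⟨F, hF⟩ := hJ.2 (Φ v)
  have hat : ∀ (t : 𝟙_ (Over (Spec (CommRingCat.of k))) ⟶ G) (H : Γ((G ⊗ X).left, (snd G X).left ⁻¹ᵁ U)),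
      ρ (at_ t U H) = at_ t V₀ (al j.left hV1.le H) := by
    intro t H
    have h1 : (inc X₀).left ≫ (sc X t).left = (sc (sub X₀) t).left ≫ j.left := by
      rw [← Over.comp_left, ← Over.comp_left]
      congr 1
      rw [sc, sc, lift_whiskerLeft, comp_lift, Category.comp_id, Category.id_comp, ← Category.assoc, comp_toUnit]
    rw [hρdef, at_, at_, al_comp, al_comp]
    exact al_congr h1 _ _ _
  refine ⟨{h | ∃ w : Coh.structureModule (sub X₀).left ⟶ M, sec w V₀ = ρ h • sec v V₀}, F, ?_, ?_, ?_, ?_, ?_, ?_⟩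
  · exact ⟨v, by rw [map_one, one_smul]⟩
  · intro c hc
    exact hC (ρ c) (Finset.mem_image_of_mem ρ hc)
  · obtain ⟨n, w, hw⟩ := hfin M hM
    have h1 := fun i => hv.exists_eq (res M (le_top : V₀ ≤ ⊤) (w i))
    choose r hr using h1
    choose h hh using fun i => hρ.2 (r i)
    refine ⟨n, h, ?_⟩
    rintro x ⟨w', hw'⟩
    obtain ⟨c, hc⟩ := hw (sec w' ⊤)
    refine ⟨c, hρ.1 (hv.ext ?_)⟩
    have h2 := congrArg (res M (le_top : V₀ ≤ ⊤)) hc
    rw [res_sec, map_sum] at h2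
    rw [← hw', h2, map_sum, Finset.sum_smul]
    refine Finset.sum_congr rfl fun i _ => ?_
    rw [res_smul, hr, map_mul, hh, mul_smul, hρs]
    congr 1
    exact ores_str _ _
  · intro n h c hh
    choose w hw using hh
    refine ⟨homOf (∑ i, (str (Z := sub X₀) ⊤ (c i) : Γ((sub X₀).left, ⊤)) • (sec (w i) ⊤ : Γ(M, ⊤))), ?_⟩
    rw [sec_homOf, map_sum, map_sum, Finset.sum_smul]
    refine Finset.sum_congr rfl fun i _ => ?_
    rw [res_smul, res_sec, hw i, map_mul, mul_smul, hρs]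
    congr 1
    exact ores_str _ _
  · rintro h ⟨w, hw⟩
    obtain ⟨H, hH⟩ := hJ.2 (Φ w)
    refine ⟨H, fun t => ?_, fun Ω hl hr => ?_⟩
    · obtain ⟨w', hw'⟩ := hΦ1 w t
      exact ⟨w', by rw [hat, hH]; exact hw'⟩
    · have hΩ := EqExt.al_bijective hGXn j.left hjb (O := Ω) (W := j.left ⁻¹ᵁ Ω) rfl
      refine hΩ.1 ?_
      have hl' : j.left ⁻¹ᵁ Ω ≤ b.act.left ⁻¹ᵁ V₀ := (j.left.preimage_mono hl).trans hV2.ge
      have hr' : j.left ⁻¹ᵁ Ω ≤ (snd G (sub X₀)).left ⁻¹ᵁ V₀ := (j.left.preimage_mono hr).trans hV1.ge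
      have h1 := (hΦ2 (j.left ⁻¹ᵁ Ω) hl' hr').1 w (ρ h) hw
      rw [← hF, ← hH, ores_al, ores_al] at h1
      rw [map_mul, al_comp, al_ores, al_ores]
      refine Eq.trans ?_ h1
      congr 1
      rw [hρdef, al_comp]
      exact al_congr hja' _ _ _
  · intro Ω hl hr
    have hΩ := EqExt.al_bijective hGXn j.left hjb (O := Ω) (W := j.left ⁻¹ᵁ Ω) rfl
    have hl' : j.left ⁻¹ᵁ Ω ≤ b.act.left ⁻¹ᵁ V₀ := (j.left.preimage_mono hl).trans hV2.ge
    have hr' : j.left ⁻¹ᵁ Ω ≤ (snd G (sub X₀)).left ⁻¹ᵁ V₀ := (j.left.preimage_mono hr).trans hV1.ge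
    have h1 := (hΦ2 (j.left ⁻¹ᵁ Ω) hl' hr').2
    rw [← hF, ores_al] at h1
    have h2 : IsUnit (al j.left (le_refl (j.left ⁻¹ᵁ Ω)) (ores hr F)) := by
      rw [al_ores]
      exact h1
    exact (MulEquiv.isUnit_map (RingEquiv.ofBijective (al j.left (le_refl (j.left ⁻¹ᵁ Ω))) hΩ)).1 h2

end K220.EqGen
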