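import Groth.Agent.AlgGrp.K220.EqGen

/-!
# Equivariant generators of an affine open of a proper normal variety

`nodeA`: for a connected linear group `G` acting on a proper normal variety `X` and a nonempty affine open `U` there are
generators `h j` of `Γ(X, U)` over `k`, an invertible matrix `m` of functions on `G` and a unit `F` with
`h j (g x) = F(g, x) ∑ l, m j l (g) h l (x)` whenever `x` and `g x` lie in `U`.
-/

set_option autoImplicit false
universe u
open CategoryTheory MonoidalCategory CartesianMonoidalCategory MonObj GrpObj AlgebraicGeometry Limits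

namespace K220.EqNode

open Groth.Agent.Sga3B.AffPts Groth.Agent.Books.AlgPts Groth.Agent.Fdesc.LocGen
open Groth.Agent.Fga.LimSec hiding sc
open K395.TorEv K395.TorDec K395.SmLoc K395.NormExt K395.Transl

/-- A basis containing a given vector. -/
theorem exists_basis {K V : Type*} [Field K] [AddCommGroup V] [Module K V] [FiniteDimensional K V] (v : V)
    (hv : v ≠ 0) : ∃ (n : ℕ) (B : Module.Basis (Fin (n + 1)) K V), B 0 = v := by
  classical
  have hs : LinearIndepOn K id ({v} : Set V) := LinearIndepOn.singleton hv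
  let B' := Module.Basis.extend hs
  have hfin : Finite (hs.extend (Set.subset_univ _)) := Module.Finite.finite_basis B'
  let i0 : hs.extend (Set.subset_univ _) := ⟨v, hs.subset_extend _ (Set.mem_singleton v)⟩
  obtain ⟨n, ⟨e⟩⟩ := Finite.exists_equiv_fin (hs.extend (Set.subset_univ _))
  obtain ⟨n, rfl⟩ : ∃ m, n = m + 1 := Nat.exists_eq_succ_of_ne_zero (by
    rintro rfl
    exact (e i0).elim0)
  let e' := e.trans (Equiv.swap (e i0) 0)
  have he' : e'.symm 0 = i0 := by
    rw [Equiv.symm_apply_eq]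
    simp [e']
  refine ⟨n, B'.reindex e', ?_⟩
  rw [Module.Basis.reindex_apply, he']
  exact Module.Basis.extend_apply_self hs i0

variable {k : Type u} [Field k]

theorem finiteType_str {X : Over (Spec (CommRingCat.of k))} [LocallyOfFiniteType X.hom] {U : X.left.Opens}
    (hU : IsAffineOpen U) : (str U : k →+* Γ(X.left, U)).FiniteType := by
  have h1 : (X.hom.appLE ⊤ U le_top).hom.FiniteType :=
    Scheme.Hom.finiteType_appLE X.hom (isAffineOpen_top _) hU le_top
  refine h1.comp (RingHom.FiniteType.of_surjective _ ?_)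
  exact (ConcreteCategory.bijective_of_isIso (Scheme.ΓSpecIso (CommRingCat.of k)).inv).2

theorem surjective_eval₂ {X : Over (Spec (CommRingCat.of k))} {U : X.left.Opens} {n : ℕ}
    (h : Fin n → Γ(X.left, U)) (C : Set Γ(X.left, U))
    (hC : letI := (str U : k →+* Γ(X.left, U)).toAlgebra; Algebra.adjoin k C = ⊤)
    (hCh : ∀ x ∈ C, ∃ c : Fin n → k, x = ∑ i, str U (c i) * h i) :
    Function.Surjective (MvPolynomial.eval₂Hom (str U) h) := by
  let _ := (str U : k →+* Γ(X.left, U)).toAlgebra
  have h1 : (MvPolynomial.aeval (R := k) h).range = ⊤ := by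
    rw [eq_top_iff, ← hC, Algebra.adjoin_le_iff]
    intro x hx
    obtain ⟨c, rfl⟩ := hCh x hx
    refine Subalgebra.sum_mem _ fun i _ => Subalgebra.mul_mem _ ?_ ?_
    · exact Subalgebra.algebraMap_mem _ (c i)
    · exact ⟨MvPolynomial.X i, by simp⟩
  intro x
  have h2 : x ∈ (MvPolynomial.aeval (R := k) h).range := by rw [h1]; trivial
  obtain ⟨p, hp⟩ := h2
  exact ⟨p, hp⟩

/-- Functions on `U` which vanish on a nonempty part of a translate of `U` are zero. -/
theorem eq_zero_of_al {X : Scheme.{u}} [IsIntegral X] (τ : X ⟶ X) [IsIso τ] {U T : X.Opens}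
    (hT : T ≤ τ ⁻¹ᵁ U) (hne : (T : Set X).Nonempty) (x : Γ(X, U)) (hx : al τ hT x = 0) : x = 0 := by
  by_contra h0
  have h1 : X.basicOpen x ≠ ⊥ := fun h => h0 ((basicOpen_eq_bot_iff _).1 h)
  have h2 : ((X.basicOpen x : X.Opens) : Set X).Nonempty := by
    rw [Set.nonempty_iff_ne_empty]
    intro h
    exact h1 (TopologicalSpace.Opens.ext h)
  have h3 := basicOpen_al τ hT x
  rw [hx, Scheme.basicOpen_zero] at h3
  obtain ⟨z, hz⟩ := h2.preimage τ.surjective
  obtain ⟨y, hy⟩ := hne
  have h4 : genericPoint X ∈ T ⊓ τ ⁻¹ᵁ X.basicOpen x :=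
    ⟨(genericPoint_specializes y).mem_open T.2 hy,
      (genericPoint_specializes z).mem_open (τ ⁻¹ᵁ X.basicOpen x).2 hz⟩
  rw [← h3] at h4
  exact h4

variable [IsAlgClosed k]

theorem nodeA (G X : Over (Spec (CommRingCat.of k))) [GrpObj G] [IsAffine G.left] [Smooth G.hom]
    [ConnectedSpace ↥G.left] [IsIntegral X.left] [IsProper X.hom] (hX : Pi1.IsNormalScheme X.left)
    (a : AlgGrp.Action G X) (U : X.left.Opens) (hU : IsAffineOpen U) (hne : (U : Set X.left).Nonempty) :
    ∃ (n : ℕ) (h : Fin (n + 1) → Γ(X.left, U)) (m : Matrix (Fin (n + 1)) (Fin (n + 1)) Γ(G.left, ⊤))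
      (F : Γ((G ⊗ X).left, a.act.left ⁻¹ᵁ U ⊓ (snd G X).left ⁻¹ᵁ U)),
      h 0 = 1 ∧ Function.Surjective (MvPolynomial.eval₂Hom (str U) h) ∧ IsUnit m ∧ IsUnit F ∧
      ∀ j, a.act.left.appLE U (a.act.left ⁻¹ᵁ U ⊓ (snd G X).left ⁻¹ᵁ U) inf_le_left (h j) =
        F * ∑ l, (fst G X).left.appLE ⊤ (a.act.left ⁻¹ᵁ U ⊓ (snd G X).left ⁻¹ᵁ U) le_top (m j l) *
          (snd G X).left.appLE U (a.act.left ⁻¹ᵁ U ⊓ (snd G X).left ⁻¹ᵁ U) inf_le_right (h l) := by
  let iA : Algebra k Γ(X.left, U) := (str U : k →+* Γ(X.left, U)).toAlgebra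
  have hft : Algebra.FiniteType k Γ(X.left, U) := finiteType_str hU
  obtain ⟨C, hC⟩ := hft.out
  obtain ⟨W, F, h1, hCW, ⟨n₀, h₀, hspan⟩, hcl, hH, hF⟩ := EqGen.exists_space G X hX a U hU hne C
  -- the subspace
  let W' : Submodule k Γ(X.left, U) :=
    { carrier := W
      add_mem' := fun {x y} hx hy => by
        have := hcl 2 ![x, y] (fun _ => 1) (fun i => by fin_cases i <;> assumption)
        simpa using this
      zero_mem' := by simpa using hcl 0 Fin.elim0 Fin.elim0 (fun i => i.elim0)
      smul_mem' := fun c x hx => by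
        have := hcl 1 (fun _ => x) (fun _ => c) (fun _ => hx)
        rw [Fin.sum_univ_one] at this
        exact this }
  have hWle : W' ≤ Submodule.span k (Set.range h₀) := fun x hx => by
    obtain ⟨c, hc⟩ := hspan x hx
    exact (Submodule.mem_span_range_iff_exists_fun _).2 ⟨c, hc.symm⟩
  have hWf : FiniteDimensional k W' := by
    have : FiniteDimensional k (Submodule.span k (Set.range h₀)) :=
      FiniteDimensional.span_of_finite k (Set.finite_range h₀)
    exact Submodule.finiteDimensional_of_le hWle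
  have hUn : Nonempty U := ⟨⟨_, hne.some_mem⟩⟩
  have hnt : (⟨1, h1⟩ : W') ≠ 0 := fun h => one_ne_zero (α := Γ(X.left, U)) (congrArg Subtype.val h)
  obtain ⟨n, B, hB⟩ := exists_basis (K := k) (⟨1, h1⟩ : W') hnt
  let h : Fin (n + 1) → Γ(X.left, U) := fun l => (B l : Γ(X.left, U))
  have hrep : ∀ x ∈ W, ∃ c : Fin (n + 1) → k, x = ∑ i, str U (c i) * h i := by
    intro x hx
    refine ⟨fun i => B.repr ⟨x, hx⟩ i, ?_⟩
    have h2 := congrArg Subtype.val (B.sum_repr ⟨x, hx⟩)
    rw [Submodule.coe_sum] at h2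
    exact h2.symm
  have hhW : ∀ j, h j ∈ W := fun j => (B j).2
  -- the product
  have hGi : IsIntegral G.left := K407.Chart.isIntegral_of_connected G
  have hsn : LocallyOfFiniteType (snd G X).left :=
    K395.Act.snd_mem @LocallyOfFiniteType G X inferInstance
  have hGX : IsIntegral (G ⊗ X).left := K528.Irr.isIntegral_tensor G X
  have hGXf : LocallyOfFiniteType (G ⊗ X).hom := by
    rw [← Over.w (snd G X)]
    infer_instance
  choose H hHW hrel using fun j => hH (h j) (hhW j)
  choose m hm using fun j => EqAux.exists_coeff hU h (H j) (fun t => hrep _ (hHW j t))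
  have hatH : ∀ (t : 𝟙_ (Over (Spec (CommRingCat.of k))) ⟶ G) j,
      at_ t U (H j) = ∑ l, str U (val t (m j l : Fn G)) * h l := by
    intro t j
    rw [hm j, map_sum]
    refine Finset.sum_congr rfl fun l _ => ?_
    rw [map_mul, at_snd]
    exact congrArg (· * h l) (at_fst t U (m j l : Fn G))
  set Ω : (G ⊗ X).left.Opens := a.act.left ⁻¹ᵁ U ⊓ (snd G X).left ⁻¹ᵁ U with hΩ
  have hl : Ω ≤ a.act.left ⁻¹ᵁ U := inf_le_left
  have hr : Ω ≤ (snd G X).left ⁻¹ᵁ U := inf_le_right
  obtain ⟨F', hF'⟩ := hF Ω hl hr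
  refine ⟨n, h, m, (F'⁻¹ : Γ((G ⊗ X).left, Ω)ˣ), congrArg Subtype.val hB,
    surjective_eval₂ h (C : Set Γ(X.left, U)) hC (fun x hx => hrep x (hCW x hx)), ?_, Units.isUnit _, fun j => ?_⟩
  · rw [Matrix.isUnit_iff_isUnit_det]
    refine EqAux.isUnit_of_forall_val _ fun t ht => ?_
    have h2 : (Matrix.det (((val t : Fn G →ₐ[k] k) : Fn G →+* k).mapMatrix m)) = 0 := by
      rw [← RingHom.map_det]
      exact ht
    obtain ⟨c, hc0, hc⟩ := Matrix.exists_vecMul_eq_zero_iff.2 h2
    have hc' : ∀ l, ∑ j, c j * val t (m j l : Fn G) = 0 := fun l => congrFun hc l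
    refine hc0 ?_
    -- the point
    have htr : (sc X t).left ≫ a.act.left = (tr a t).left := rfl
    let T : X.left.Opens := (sc X t).left ⁻¹ᵁ Ω
    have hT : T ≤ (tr a t).left ⁻¹ᵁ U := (sc X t).left.preimage_mono hl
    have hT' : T ≤ U := by
      have h3 := (sc X t).left.preimage_mono hr
      refine h3.trans (le_of_eq ?_)
      change ((sc X t).left ≫ (snd G X).left) ⁻¹ᵁ U = U
      rw [sc_snd_left]
      rfl
    have hTne : (T : Set X.left).Nonempty := by
      obtain ⟨z, hz⟩ := hne.preimage (tr a t).left.surjective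
      obtain ⟨y, hy⟩ := hne
      refine ⟨genericPoint X.left, (genericPoint_specializes z).mem_open ((tr a t).left ⁻¹ᵁ U).2 hz, ?_⟩
      have h3 : genericPoint X.left ∈ U := (genericPoint_specializes y).mem_open U.2 hy
      exact sc_le t U h3
    have hu : IsUnit (al (sc X t).left (le_refl T) (ores hr F)) := (hF Ω hl hr).map _
    have hj : ∀ j, al (tr a t).left hT (h j) * al (sc X t).left (le_refl T) (ores hr F) =
        ∑ l, str T (val t (m j l : Fn G)) * ores hT' (h l) := by
      intro j
      have h3 := congrArg (al (sc X t).left (le_refl T)) (hrel j Ω hl hr)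
      rw [map_mul, al_comp] at h3
      have h4 : al (sc X t).left (le_refl T) (ores hr (H j)) = ores hT' (at_ t U (H j)) := by
        rw [al_ores, at_, ores_al]
      rw [h4, hatH, map_sum] at h3
      refine h3.trans (Finset.sum_congr rfl fun l _ => ?_)
      rw [map_mul, ores_str]
    have hx : al (tr a t).left hT (∑ j, str U (c j) * h j) = 0 := by
      refine hu.mul_left_injective (b := _) ?_
      change _ * _ = 0 * _
      rw [zero_mul, map_sum, Finset.sum_mul]
      have h5 : ∀ j, al (tr a t).left hT (str U (c j) * h j) * al (sc X t).left (le_refl T) (ores hr F) =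
          ∑ l, str T (c j * val t (m j l : Fn G)) * ores hT' (h l) := by
        intro j
        rw [map_mul, _root_.mul_assoc, hj, al_str, Finset.mul_sum]
        refine Finset.sum_congr rfl fun l _ => ?_
        rw [map_mul, _root_.mul_assoc]
      rw [Finset.sum_congr rfl fun j _ => h5 j, Finset.sum_comm]
      refine Finset.sum_eq_zero fun l _ => ?_
      rw [← Finset.sum_mul, ← map_sum, hc', map_zero, zero_mul]
    have hx0 := eq_zero_of_al (tr a t).left hT hTne _ hx
    have hlin := Fintype.linearIndependent_iff.1 B.linearIndependent c (by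
      apply Subtype.ext
      rw [Submodule.coe_sum]
      exact hx0)
    exact funext hlin
  · have h2 := hrel j Ω hl hr
    rw [← hF'] at h2
    have h3 : al a.act.left hl (h j) = ores hr (H j) * (F'⁻¹ : Γ((G ⊗ X).left, Ω)ˣ) := by
      rw [← h2, _root_.mul_assoc, Units.mul_inv, _root_.mul_one]
    refine h3.trans ?_
    rw [mul_comm, hm j, map_sum]
    congr 1
    refine Finset.sum_congr rfl fun l _ => ?_
    rw [map_mul, ores_al, ores_al]
    rfl

end K220.EqNode
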